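import Groth.Prelude.Def_MeroDiv
import Groth.Agent.AssPtX.Noeth
import Groth.Agent.Alg6.AssDepth
import Groth.Agent.QCoh.Stalk

/-!
# Supports of divisors and depth
-/

universe u

open CategoryTheory AlgebraicGeometry TopologicalSpace Opposite

set_option linter.style.haveILetI false
set_option backward.isDefEq.respectTransparency false
set_option backward.isDefEq.respectTransparency.types false

namespace Groth.Agent.MeroX

variable {X : Scheme.{u}}

theorem mk_one_eq_algebraMap (x : X) (r : X.presheaf.stalk x) :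
    (LocalizedModule.mk r (1 : Mero.regStalk X x) : Mero.KStalk X x) = algebraMap _ _ r := rfl

/-- Equality of fractions, with a witness. -/
theorem exists_eq_of_mk (x : X) {a u : X.presheaf.stalk x} {b : Mero.regStalk X x}
    (h : algebraMap _ (Mero.KStalk X x) u = LocalizedModule.mk a b) :
    ∃ c : Mero.regStalk X x, (c : X.presheaf.stalk x) * a = (c : X.presheaf.stalk x) * (b * u) := by
  rw [← mk_one_eq_algebraMap] at h
  obtain ⟨c, hc⟩ := LocalizedModule.mk_eq.1 h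
  exact ⟨c, by simpa [Submonoid.smul_def] using hc.symm⟩

/-- Near a point a meromorphic function is a fraction. -/
theorem exists_frac {U : X.Opens} (f : Γ(Mero.kmod X, U)) {x : X} (hx : x ∈ U) :
    ∃ (V : X.Opens) (hVU : V ≤ U) (_ : x ∈ V) (a : Γ(X, V)) (b : Mero.regSub X V), ∀ y : V,
      Mero.evalK X U ⟨y.1, hVU y.2⟩ f =
        LocalizedModule.mk (X.presheaf.germ V y.1 y.2 a) (Mero.regGerm y b) := by
  obtain ⟨V, hxV, i, a, b, w⟩ := f.2 ⟨x, hx⟩
  exact ⟨V, i.le, hxV, a, b, fun y => w y⟩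

theorem germ_eq_one_iff {U : X.Opens} (f : (Γ(Mero.kmod X, U))ˣ) (y : U) :
    Mero.germOf f y = 1 ↔ ∃ u : X.presheaf.stalk y.1, IsUnit u ∧
      algebraMap _ (Mero.KStalk X y.1) u = Mero.evalK X U y f := by
  rw [QuotientGroup.eq_one_iff]
  constructor
  · rintro ⟨u, hu⟩
    exact ⟨u, u.isUnit, congrArg Units.val hu⟩
  · rintro ⟨u, hu, he⟩
    exact ⟨hu.unit, Units.ext he⟩

/-- The support of a divisor is closed. -/
theorem exists_nhd_eq_one (D : Mero.Divisor X) {x : X} (hx : D.1 x = 1) :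
    ∃ (W : X.Opens), x ∈ W ∧ ∀ y ∈ W, D.1 y = 1 := by
  obtain ⟨U, hxU, f, hf⟩ := D.2 x
  obtain ⟨u, hu, he⟩ := (germ_eq_one_iff f ⟨x, hxU⟩).1 ((hf ⟨x, hxU⟩).symm.trans hx)
  obtain ⟨V, hVU, hxV, a, b, hab⟩ := exists_frac f.1 hxU
  obtain ⟨c, hc⟩ := exists_eq_of_mk x (he.trans (hab ⟨x, hxV⟩))
  obtain ⟨O, hxO, r, rfl⟩ := X.presheaf.exists_germ_eq (x := x) u
  obtain ⟨T, hxT, t, ht, htc⟩ := c.2
  let W₀ : X.Opens := X.basicOpen r ⊓ V ⊓ T
  have h0 : x ∈ W₀ := ⟨⟨(X.mem_basicOpen r x hxO).2 hu, hxV⟩, hxT⟩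
  have hO : W₀ ≤ O := (inf_le_left.trans inf_le_left).trans (X.basicOpen_le r)
  have hV : W₀ ≤ V := inf_le_left.trans inf_le_right
  have hT : W₀ ≤ T := inf_le_right
  let r' := X.presheaf.map (homOfLE hO).op r
  let a' := X.presheaf.map (homOfLE hV).op a
  let b' := X.presheaf.map (homOfLE hV).op b.1
  let t' := X.presheaf.map (homOfLE hT).op t
  have e : X.presheaf.germ W₀ x h0 (t' * a') = X.presheaf.germ W₀ x h0 (t' * (b' * r')) := by
    simp only [map_mul, t', a', b', r', X.presheaf.germ_res_apply]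
    rw [htc]
    exact hc
  obtain ⟨W, hxW, i, j, hW⟩ := X.presheaf.germ_eq x h0 h0 _ _ e
  refine ⟨W, hxW, fun y hy => ?_⟩
  have hy0 : y ∈ W₀ := i.le hy
  rw [hf ⟨y, hVU (hV hy0)⟩]
  refine (germ_eq_one_iff f ⟨y, hVU (hV hy0)⟩).2
    ⟨X.presheaf.germ O y (hO hy0) r, (X.mem_basicOpen r y (hO hy0)).1 hy0.1.1, ?_⟩
  rw [← mk_one_eq_algebraMap, hab ⟨y, hV hy0⟩]
  refine LocalizedModule.mk_eq.2 ⟨Mero.regGerm ⟨y, hT hy0⟩ ⟨t, ht⟩, ?_⟩
  have e' := congrArg (X.presheaf.germ W y hy) hW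
  rw [X.presheaf.germ_res_apply, X.presheaf.germ_res_apply] at e'
  simp only [map_mul, t', a', b', r', X.presheaf.germ_res_apply] at e'
  simp only [Submonoid.smul_def, smul_eq_mul, Submonoid.coe_one, one_mul]
  exact e'.symm

variable [IsLocallyNoetherian X]

/-- At a point of depth zero every divisor is trivial. -/
theorem eq_one_of_depth_zero (D : Mero.Divisor X) {x : X}
    (h : LocCoh.depth (X.presheaf.stalk x) (X.presheaf.stalk x) = 0) : D.1 x = 1 := by
  have hm : IsLocalRing.maximalIdeal (X.presheaf.stalk x) ∈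
      associatedPrimes (X.presheaf.stalk x) (X.presheaf.stalk x) := by
    by_contra hm
    exact absurd ((Alg6.one_le_depth_iff.2 hm).trans h.le) (by simp)
  have hreg : ∀ c : Mero.regStalk X x, IsUnit (c : X.presheaf.stalk x) := fun c => by
    by_contra hc
    have h1 : (c : X.presheaf.stalk x) ∈
        ⋃ P ∈ associatedPrimes (X.presheaf.stalk x) (X.presheaf.stalk x), (P : Set (X.presheaf.stalk x)) :=
      Set.mem_iUnion₂.2 ⟨_, hm, hc⟩
    rw [biUnion_associatedPrimes_eq_compl_nonZeroDivisors] at h1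
    exact h1 (Mero.regStalk_le_nonZeroDivisors x c.2)
  have hb : Function.Bijective (algebraMap (X.presheaf.stalk x) (Mero.KStalk X x)) :=
    (IsLocalization.atUnits (X.presheaf.stalk x) (Mero.regStalk X x) (S := Mero.KStalk X x)
      (fun c hc => hreg ⟨c, hc⟩)).bijective
  obtain ⟨U, hxU, f, hf⟩ := D.2 x
  rw [hf ⟨x, hxU⟩]
  obtain ⟨u, hu⟩ := hb.2 (Mero.evalK X U ⟨x, hxU⟩ f)
  refine (germ_eq_one_iff f ⟨x, hxU⟩).2 ⟨u, ?_, hu⟩
  obtain ⟨v, hv⟩ := hb.2 (Mero.evalK X U ⟨x, hxU⟩ ((f⁻¹ : _ˣ) : Γ(Mero.kmod X, U)))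
  refine IsUnit.of_mul_eq_one v (hb.1 ?_)
  rw [map_mul, hu, hv, map_one, ← map_mul, Units.mul_inv, map_one]

end Groth.Agent.MeroX

namespace Groth.Agent.MeroX

variable {X : Scheme.{u}} [IsLocallyNoetherian X]

/-- A fraction of regular elements that is integral at all proper generizations is integral when the depth is at least two. -/
theorem dvd_of_two_le_depth {x : X} {V : X.Opens} (hV : IsAffineOpen V) (hxV : x ∈ V) (a b : Γ(X, V))
    (hb : X.presheaf.germ V x hxV b ∈ nonZeroDivisors (X.presheaf.stalk x))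
    (hd : (2 : ℕ∞) ≤ LocCoh.depth (X.presheaf.stalk x) (X.presheaf.stalk x))
    (h : ∀ (y : X) (hy : y ∈ V), y ⤳ x → y ≠ x →
      X.presheaf.germ V y hy b ∣ X.presheaf.germ V y hy a) :
    X.presheaf.germ V x hxV b ∣ X.presheaf.germ V x hxV a := by
  by_contra hnd
  letI := Groth.Agent.QCoh.stalkAlg (X := X) hxV
  haveI := Groth.Agent.QCoh.isLocalization_stalk' hV hxV
  let P := (hV.primeIdealOf ⟨x, hxV⟩).asIdeal
  have hbm : X.presheaf.germ V x hxV b ∈ IsLocalRing.maximalIdeal (X.presheaf.stalk x) :=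
    fun hu => hnd hu.dvd
  have hbr : IsSMulRegular (X.presheaf.stalk x) (X.presheaf.germ V x hxV b) := fun p q hpq => by
    have h1 : (p - q) * X.presheaf.germ V x hxV b = 0 := by
      have : X.presheaf.germ V x hxV b * p = X.presheaf.germ V x hxV b * q := hpq
      rw [sub_mul, sub_eq_zero, mul_comm p, mul_comm q]
      exact this
    exact sub_eq_zero.1 (mem_nonZeroDivisors_iff_right.1 hb _ h1)
  refine (Alg6.two_le_depth_iff hbm hbr).1 hd ?_
  refine AssociatedPrimes.mem_iff.2 ⟨inferInstance, Submodule.Quotient.mk (X.presheaf.germ V x hxV a), ?_⟩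
  let J := (⊥ : Submodule (X.presheaf.stalk x) (QuotSMulTop (X.presheaf.germ V x hxV b)
    (X.presheaf.stalk x))).colon {Submodule.Quotient.mk (X.presheaf.germ V x hxV a)}
  have hmem : ∀ c, c ∈ J ↔ X.presheaf.germ V x hxV b ∣ c * X.presheaf.germ V x hxV a := fun c => by
    rw [Submodule.mem_colon_singleton, Submodule.mem_bot, ← Submodule.Quotient.mk_smul,
      Alg6.mem_pointwise_smul_top_iff]
    exact ⟨fun ⟨w, hw⟩ => ⟨w, hw.symm⟩, fun ⟨w, hw⟩ => ⟨w, hw.symm⟩⟩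
  show IsLocalRing.maximalIdeal (X.presheaf.stalk x) = J.radical
  refine le_antisymm ?_ ?_
  · rw [Ideal.radical_eq_sInf]
    refine le_sInf fun Q ⟨hJQ, hQ⟩ => ?_
    by_contra hQm
    have hle : Q.comap (algebraMap Γ(X, V) (X.presheaf.stalk x)) ≤ P := by
      rw [← IsLocalization.AtPrime.comap_maximalIdeal (X.presheaf.stalk x) P]
      exact Ideal.comap_mono (IsLocalRing.le_maximalIdeal hQ.ne_top)
    obtain ⟨y, hy, hyQ⟩ := Groth.Agent.QCoh.exists_point hV ⟨_, Ideal.IsPrime.comap (K := Q)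
      (algebraMap Γ(X, V) (X.presheaf.stalk x))⟩
    have hyQ' : (hV.primeIdealOf ⟨y, hy⟩).asIdeal = Q.comap (algebraMap Γ(X, V) (X.presheaf.stalk x)) :=
      congrArg PrimeSpectrum.asIdeal hyQ
    have hyx : y ⤳ x := (AssPtX.primeIdealOf_le_iff hV hy hxV).1 (hyQ' ▸ hle)
    have hne : y ≠ x := by
      rintro rfl
      refine hQm ?_
      have e3 := congrArg (Ideal.map (algebraMap Γ(X, V) (X.presheaf.stalk y))) hyQ'
      rw [IsLocalization.AtPrime.map_eq_maximalIdeal,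
        IsLocalization.map_comap (hV.primeIdealOf ⟨y, hxV⟩).asIdeal.primeCompl] at e3
      exact e3.le
    obtain ⟨w, hw⟩ := h y hy hyx hne
    letI := Groth.Agent.QCoh.stalkAlg (X := X) hy
    haveI := Groth.Agent.QCoh.isLocalization_stalk' hV hy
    obtain ⟨⟨r, s⟩, hrs⟩ := IsLocalization.surj (hV.primeIdealOf ⟨y, hy⟩).asIdeal.primeCompl w
    have e : algebraMap Γ(X, V) (X.presheaf.stalk y) (a * s) = algebraMap Γ(X, V) (X.presheaf.stalk y) (b * r) := by
      rw [map_mul, map_mul, ← hrs,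
        show algebraMap Γ(X, V) (X.presheaf.stalk y) a = algebraMap Γ(X, V) (X.presheaf.stalk y) b * w from hw,
        mul_assoc]
    obtain ⟨c, hc⟩ := IsLocalization.exists_of_eq (M := (hV.primeIdealOf ⟨y, hy⟩).asIdeal.primeCompl) e
    have hcs : ((c : Γ(X, V)) * s) ∈ (hV.primeIdealOf ⟨y, hy⟩).asIdeal.primeCompl := (c * s).2
    refine hcs ?_
    show _ ∈ (hV.primeIdealOf ⟨y, hy⟩).asIdeal
    refine hyQ'.ge ?_
    refine Ideal.mem_comap.2 (hJQ ((hmem _).2 ⟨algebraMap Γ(X, V) (X.presheaf.stalk x) (c * r), ?_⟩))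
    have e1 : (c : Γ(X, V)) * s * a = b * (c * r) := by linear_combination hc
    exact ((map_mul (algebraMap Γ(X, V) (X.presheaf.stalk x)) _ _).symm.trans (congrArg _ e1)).trans
      (map_mul (algebraMap Γ(X, V) (X.presheaf.stalk x)) _ _)
  · refine (IsLocalRing.maximalIdeal.isMaximal _).isPrime.radical_le_iff.2 ?_
    intro c hc hu
    obtain ⟨v, hv⟩ := IsUnit.exists_left_inv hu
    obtain ⟨w, hw⟩ := (hmem c).1 hc
    refine hnd ⟨v * w, ?_⟩
    rw [mul_left_comm, ← hw, ← mul_assoc, hv, one_mul]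

/-- At a maximal point of the support of a divisor the depth is one. -/
theorem depth_eq_one_of_maximal (D : Mero.Divisor X) {x : X} (hx : D.1 x ≠ 1)
    (hmax : ∀ z : X, D.1 z ≠ 1 → z ⤳ x → z = x) :
    LocCoh.depth (X.presheaf.stalk x) (X.presheaf.stalk x) = 1 := by
  refine le_antisymm ?_ (Order.one_le_iff_ne_zero.2 fun h => hx (eq_one_of_depth_zero D h))
  by_contra hlt
  have hd : (2 : ℕ∞) ≤ LocCoh.depth (X.presheaf.stalk x) (X.presheaf.stalk x) := by
    rw [not_le] at hlt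
    exact Order.add_one_le_of_lt hlt
  obtain ⟨U, hxU, f, hf⟩ := D.2 x
  obtain ⟨V₀, hVU, hxV₀, a₀, b₀, hab⟩ := exists_frac f.1 hxU
  obtain ⟨V, hV, hxV, hVV₀⟩ := exists_isAffineOpen_mem_and_subset (x := x) (U := V₀) hxV₀
  have hVV : V ≤ V₀ := hVV₀
  let a := X.presheaf.map (homOfLE hVV).op a₀
  let b := X.presheaf.map (homOfLE hVV).op b₀.1
  have hga : ∀ y (hy : y ∈ V), X.presheaf.germ V y hy a = X.presheaf.germ V₀ y (hVV hy) a₀ := fun y hy =>
    X.presheaf.germ_res_apply _ _ _ _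
  have hgb : ∀ y (hy : y ∈ V), X.presheaf.germ V y hy b = X.presheaf.germ V₀ y (hVV hy) b₀.1 := fun y hy =>
    X.presheaf.germ_res_apply _ _ _ _
  have hbn : ∀ y (hy : y ∈ V), X.presheaf.germ V y hy b ∈ nonZeroDivisors (X.presheaf.stalk y) := fun y hy =>
    hgb y hy ▸ Mero.regStalk_le_nonZeroDivisors y (Mero.regGerm ⟨y, hVV hy⟩ b₀).2
  have hinj : ∀ y : X, Function.Injective (algebraMap (X.presheaf.stalk y) (Mero.KStalk X y)) := fun y =>
    IsLocalization.injective _ (Mero.regStalk_le_nonZeroDivisors y)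
  -- the numerator is regular
  have han : ∀ y (hy : y ∈ V), X.presheaf.germ V y hy a ∈ nonZeroDivisors (X.presheaf.stalk y) := fun y hy => by
    refine mem_nonZeroDivisors_iff_right.2 fun z hz => hinj y ?_
    rw [map_zero]
    refine ((Units.map (Mero.evalK X U ⟨y, hVU (hVV hy)⟩).toMonoidHom f).isUnit).mul_left_eq_zero.1 ?_
    show algebraMap _ (Mero.KStalk X y) z * Mero.evalK X U ⟨y, hVU (hVV hy)⟩ f.1 = 0
    rw [hab ⟨y, hVV hy⟩, ← Algebra.smul_def, LocalizedModule.smul'_mk]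
    rw [hga] at hz
    rw [smul_eq_mul, hz, LocalizedModule.zero_mk]
  have hassoc : ∀ y (hy : y ∈ V), D.1 y = 1 → ∃ u : X.presheaf.stalk y, IsUnit u ∧
      X.presheaf.germ V y hy a = X.presheaf.germ V y hy b * u := fun y hy h1 => by
    obtain ⟨u, hu, he⟩ := (germ_eq_one_iff f ⟨y, hVU (hVV hy)⟩).1 ((hf ⟨y, hVU (hVV hy)⟩).symm.trans h1)
    obtain ⟨c, hc⟩ := exists_eq_of_mk y (he.trans (hab ⟨y, hVV hy⟩))
    refine ⟨u, hu, ?_⟩
    rw [hga, hgb]
    refine (mul_cancel_left_mem_nonZeroDivisors (Mero.regStalk_le_nonZeroDivisors y c.2)).1 ?_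
    exact hc
  have hgen : ∀ (y : X) (hy : y ∈ V), y ⤳ x → y ≠ x → D.1 y = 1 := fun y _ hyx hne =>
    by_contra fun h1 => hne (hmax y h1 hyx)
  have h1 := dvd_of_two_le_depth hV hxV a b (hbn x hxV) hd fun y hy hyx hne => by
    obtain ⟨u, -, e⟩ := hassoc y hy (hgen y hy hyx hne)
    exact ⟨u, e⟩
  have h2 := dvd_of_two_le_depth hV hxV b a (han x hxV) hd fun y hy hyx hne => by
    obtain ⟨u, hu, e⟩ := hassoc y hy (hgen y hy hyx hne)
    obtain ⟨v, hv⟩ := hu.exists_right_inv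
    exact ⟨v, by rw [e, mul_assoc, hv, mul_one]⟩
  obtain ⟨v, hv⟩ := h1
  obtain ⟨w, hw⟩ := h2
  refine hx ?_
  rw [hf ⟨x, hxU⟩]
  refine (germ_eq_one_iff f ⟨x, hxU⟩).2 ⟨v, IsUnit.of_mul_eq_one w ?_, ?_⟩
  · refine (mul_cancel_left_mem_nonZeroDivisors (hbn x hxV)).1 ?_
    rw [mul_one, ← mul_assoc, ← hv, ← hw]
  · rw [hab ⟨x, hxV₀⟩, ← mk_one_eq_algebraMap]
    refine LocalizedModule.mk_eq.2 ⟨1, ?_⟩
    rw [hga, hgb] at hv
    simp only [one_smul]
    exact hv.symm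

end Groth.Agent.MeroX
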